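import Cfsg.Agent.Lib.Chevalley.ReeThree.Transfer
import Mathlib.GroupTheory.Abelianization.Defs
import Mathlib.GroupTheory.Sylow

/-!
The derived subgroup of `²G₂(3)` is a simple group of order 504.
-/

set_option autoImplicit false
set_option maxRecDepth 20000

namespace CfsgLib.Chevalley.ReeThree

open Tbl Twist.G2 MulAction
open scoped commutatorElement

local notation "T2" => Data.G2.tbl

local notation "K3" => ZMod 3

theorem card_G3 : Nat.card G3 = 1512 := by rw [fix_card_eq hK3]; norm_num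

theorem card_Pts3 : Nat.card (Pts hK3) = 28 := by rw [card_Pts hK3]; norm_num

instance fact7 : Fact (Nat.Prime 7) := ⟨by norm_num⟩

/-- The element with nontrivial commutator with the involution. -/
noncomputable def u1 : G3 := ⟨ree 0 1 0 0, (ree_mem_pos hK3 1 0 0).2⟩

theorem u1_comm_ne : ⁅h0 hK3, u1⁆ ≠ 1 := by
  rw [Ne, commutatorElement_eq_one_iff_mul_comm]
  intro h
  rw [Subtype.ext_iff, Subgroup.coe_mul, Subgroup.coe_mul] at h
  have h' : hd hK3 (-1) * ree 0 (1 : K3) 0 0 = ree 0 1 0 0 * hd hK3 (-1) := h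
  have e := neg_one_conj hK3 (1 : K3) 0 0
  rw [mul_inv_eq_of_eq_mul h'] at e
  exact absurd (ree_inj hK3 e).1 (by decide)

theorem kernel_trivial {N : Subgroup G3} [hN : N.Normal] (h : ∀ n ∈ N, ∀ x : Pts hK3, n • x = x) : N = ⊥ := by
  rw [eq_bot_iff]
  intro n hn
  rw [Subgroup.mem_bot]
  obtain ⟨x, y, z, hxy, hxz, hyz, -⟩ := three_witness hK3
  have h2 : n * n = 1 := three_fix hK3 hxy hxz hyz (h n hn x) (h n hn y) (h n hn z)
  by_contra h1
  obtain ⟨g, hg⟩ := involution_conj hK3 h1 h2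
  have h0N : h0 hK3 ∈ N := by
    have := hN.conj_mem n hn g⁻¹
    rw [← hg] at this
    simpa [mul_assoc] using this
  have hcN : ⁅h0 hK3, u1⁆ ∈ N := by
    rw [commutatorElement_def, mul_assoc, mul_assoc, ← mul_assoc u1]
    exact mul_mem h0N (hN.conj_mem _ (inv_mem h0N) u1)
  have hcU : ⁅h0 hK3, u1⁆ ∈ Upart hK3 := by
    rw [commutatorElement_def]
    refine mul_mem ?_ (inv_mem (Subgroup.mem_subgroupOf.mpr (ree_mem_pos hK3 1 0 0)))
    refine Subgroup.mem_subgroupOf.mpr ?_
    show hd hK3 (-1) * ree 0 (1 : K3) 0 0 * (hd hK3 (-1))⁻¹ ∈ _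
    rw [neg_one_conj hK3]
    exact ree_mem_pos hK3 _ _ _
  exact hxy ((fix_Upart hK3 hcU u1_comm_ne (h _ hcN x)).trans
    (fix_Upart hK3 hcU u1_comm_ne (h _ hcN y)).symm)

theorem twenty_eight_dvd {N : Subgroup G3} [hN : N.Normal] (h1 : N ≠ ⊥) : 28 ∣ Nat.card ↥N := by
  have hmv : ∃ n ∈ N, n • pInf hK3 ≠ pInf hK3 := by
    by_contra hall
    push Not at hall
    refine h1 (kernel_trivial fun n hn x => ?_)
    obtain ⟨g, rfl⟩ := exists_smul_eq G3 (pInf hK3) x
    have := hall _ (hN.conj_mem n hn g⁻¹)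
    rwa [inv_inv, mul_smul, mul_smul, inv_smul_eq_iff] at this
  obtain ⟨n, hn, hne⟩ := hmv
  obtain ⟨w, hw, hm⟩ := exists_n0 hK3
  have horb : ∀ y : Pts hK3, ∃ k ∈ N, k • pInf hK3 = y := by
    intro y
    by_cases hy : y = pInf hK3
    · exact ⟨1, one_mem _, by rw [hy, one_smul]⟩
    · obtain ⟨a, ha1, ha2⟩ := two_trans hK3 (n := ⟨w, hw.2⟩) hw.1 hm (Ne.symm hne)
      obtain ⟨b, hb1, hb2⟩ := two_trans hK3 (n := ⟨w, hw.2⟩) hw.1 hm (Ne.symm hy)
      refine ⟨b⁻¹ * a * n * (b⁻¹ * a)⁻¹, hN.conj_mem n hn _, ?_⟩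
      rw [mul_smul, mul_smul, mul_smul, mul_inv_rev, inv_inv, mul_smul, hb1, ← ha1, inv_smul_smul, ha2,
        ← hb2, inv_smul_smul]
  have : IsPretransitive ↥N (Pts hK3) := ⟨fun x y => by
    obtain ⟨k, hk, rfl⟩ := horb x
    obtain ⟨l, hl, rfl⟩ := horb y
    exact ⟨⟨l * k⁻¹, mul_mem hl (inv_mem hk)⟩, by
      show (l * k⁻¹) • k • pInf hK3 = _
      rw [mul_smul, inv_smul_smul]⟩⟩
  rw [← card_Pts3, ← index_stabilizer_of_transitive ↥N (pInf hK3)]
  exact Subgroup.index_dvd_card _

theorem eight_le {N : Subgroup G3} [hN : N.Normal] (h : 2 ∣ Nat.card ↥N) : 8 ∣ Nat.card ↥N := by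
  obtain ⟨i, hi⟩ := exists_prime_orderOf_dvd_card' (p := 2) h
  have hi1 : (i : G3) ≠ 1 := fun e => by
    rw [← Subgroup.orderOf_coe, e, orderOf_one] at hi; omega
  have hi2 : (i : G3) * i = 1 := by
    have := pow_orderOf_eq_one i
    rw [hi, pow_two] at this
    exact congrArg Subtype.val this
  obtain ⟨g, hg⟩ := involution_conj hK3 hi1 hi2
  have h0N : h0 hK3 ∈ N := by
    have := hN.conj_mem _ i.2 g⁻¹
    rw [← hg] at this
    simpa [mul_assoc] using this
  rw [← card_eight hK3]
  refine Subgroup.card_dvd_of_le fun x hx => ?_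
  by_cases hx1 : x = 1
  · rw [hx1]; exact one_mem _
  · obtain ⟨k, rfl⟩ := involution_conj hK3 hx1 (eight_sq hK3 hx)
    exact hN.conj_mem _ h0N k

theorem card_sylow_seven : Nat.card (Sylow 7 G3) = 36 := by
  have P : Sylow 7 G3 := default
  have hmod := card_sylow_modEq_one 7 G3
  have hdvd := P.card_dvd_index
  have hc : Nat.card ↥(P : Subgroup G3) = 7 := by
    rw [P.card_eq_multiplicity, card_G3]
    decide +kernel
  have hidx : (P : Subgroup G3).index = 216 := by
    have := (P : Subgroup G3).card_mul_index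
    rw [hc, card_G3] at this; omega
  rw [hidx] at hdvd
  have hmem : Nat.card (Sylow 7 G3) ∈ (Nat.divisors 216).filter (fun n => n % 7 = 1) :=
    Finset.mem_filter.mpr ⟨Nat.mem_divisors.mpr ⟨hdvd, by norm_num⟩, hmod⟩
  rw [show (Nat.divisors 216).filter (fun n => n % 7 = 1) = {1, 8, 36} from by decide +kernel] at hmem
  simp only [Finset.mem_insert, Finset.mem_singleton] at hmem
  rcases hmem with h | h | h
  · exfalso
    have := Nat.card_eq_one_iff_unique.mp h
    have : Subsingleton (Sylow 7 G3) := this.1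
    have hne : (P : Subgroup G3) ≠ ⊥ := fun e => by rw [e, Subgroup.card_bot] at hc; omega
    haveI : (P : Subgroup G3).Normal := P.normal_of_subsingleton
    have := Nat.le_of_dvd (by rw [hc]; norm_num) (twenty_eight_dvd (N := (P : Subgroup G3)) hne)
    omega
  · exfalso
    let ρ := MulAction.toPermHom G3 (Sylow 7 G3)
    have hne : ρ.ker ≠ ⊥ := fun e => by
      have := Subgroup.card_dvd_of_injective ρ ((MonoidHom.ker_eq_bot_iff ρ).mp e)
      rw [card_G3, Nat.card_perm, h] at this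
      revert this; decide +kernel
    have hle : ρ.ker ≤ Subgroup.normalizer ((P : Subgroup G3) : Set G3) := fun g hg => by
      exact Sylow.smul_eq_iff_mem_normalizer.mp (DFunLike.congr_fun (show ρ g = 1 from hg) P)
    have hidx2 : (Subgroup.normalizer ((P : Subgroup G3) : Set G3)).index = 8 := by
      exact ((Sylow.card_eq_index_normalizer P).symm.trans h)
    have h2 := Subgroup.card_mul_index (Subgroup.normalizer ((P : Subgroup G3) : Set G3))
    rw [hidx2, card_G3] at h2
    have h3 := (twenty_eight_dvd (N := ρ.ker) hne).trans (Subgroup.card_dvd_of_le hle)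
    omega
  · exact h

theorem dvd_normal {N : Subgroup G3} [hN : N.Normal] (h1 : N ≠ ⊥) : 504 ∣ Nat.card ↥N := by
  have h28 := twenty_eight_dvd h1
  have h8 := eight_le (N := N) ((by norm_num : 2 ∣ 28).trans h28)
  have h7 : 7 ∣ Nat.card ↥N := (by norm_num : 7 ∣ 28).trans h28
  obtain ⟨P⟩ : Nonempty (Sylow 7 ↥N) := inferInstance
  have hP7 : Nat.card ↥(P : Subgroup ↥N) = 7 := by
    rw [P.card_eq_multiplicity]
    have hle : Nat.card ↥N ∣ 1512 := card_G3 ▸ Subgroup.card_subgroup_dvd_card N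
    have : (Nat.card ↥N).factorization 7 = 1 := by
      refine le_antisymm ?_ ((Nat.Prime.dvd_iff_one_le_factorization (by norm_num) Nat.card_pos.ne').mp h7)
      refine ((Nat.factorization_le_iff_dvd Nat.card_pos.ne' (by norm_num)).mpr hle 7).trans ?_
      decide +kernel
    rw [this]; norm_num
  have hrest : Nat.card (Sylow 7 ↥N) = 36 := by
    rw [← card_sylow_seven]
    refine Nat.card_eq_of_bijective (fun Q : Sylow 7 ↥N => Sylow.ofCard ((Q : Subgroup ↥N).map N.subtype) ?_)
      ⟨?_, ?_⟩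
    · rw [Subgroup.card_map_of_injective N.subtype_injective, card_G3]
      have : Nat.card ↥(Q : Subgroup ↥N) = Nat.card ↥(P : Subgroup ↥N) := by
        rw [Q.card_eq_multiplicity, P.card_eq_multiplicity]
      rw [this, hP7]
      decide +kernel
    · intro a b e
      exact Sylow.ext (Subgroup.map_injective N.subtype_injective (congrArg (fun S : Sylow 7 G3 => (S : Subgroup G3)) e))
    · intro S
      have hS7 : Nat.card ↥(S : Subgroup G3) = 7 := by
        rw [S.card_eq_multiplicity, card_G3]; decide +kernel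
      obtain ⟨k, hk⟩ := exists_smul_eq G3 (Sylow.ofCard ((P : Subgroup ↥N).map N.subtype)
        (by rw [Subgroup.card_map_of_injective N.subtype_injective, hP7, card_G3]; decide +kernel)) S
      have hSN : (S : Subgroup G3) ≤ N := by
        rw [← hk]
        intro x hx
        obtain ⟨y, hy, rfl⟩ := hx
        obtain ⟨z, -, rfl⟩ := hy
        exact hN.conj_mem _ z.2 k
      refine ⟨Sylow.ofCard ((S : Subgroup G3).subgroupOf N) ?_, Sylow.ext ?_⟩
      · exact ((Nat.card_congr (Subgroup.subgroupOfEquivOfLe hSN).toEquiv).trans (hS7.trans hP7.symm)).trans P.card_eq_multiplicity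
      · exact Subgroup.map_subgroupOf_eq_of_le hSN
  have hd := P.card_dvd_index
  rw [hrest] at hd
  have := (P : Subgroup ↥N).card_mul_index
  rw [hP7] at this
  have h252 : 252 ∣ Nat.card ↥N := this ▸ Nat.mul_dvd_mul_left 7 hd
  exact (Nat.lcm_dvd h8 h252)

theorem commutator_ne_bot : commutator G3 ≠ ⊥ := fun e => u1_comm_ne (by
  rw [← Subgroup.mem_bot, ← e]
  exact Subgroup.commutator_mem_commutator (Subgroup.mem_top _) (Subgroup.mem_top _))

theorem card_commutator : Nat.card ↥(commutator G3) = 504 := by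
  obtain ⟨V, hV⟩ := exists_hom
  refine le_antisymm ?_ (Nat.le_of_dvd Nat.card_pos (dvd_normal commutator_ne_bot))
  have hle : commutator G3 ≤ V.ker := Abelianization.commutator_subset_ker V
  have h3 : V.ker.index = 3 := by
    rw [Subgroup.index_ker]
    have hd := Subgroup.card_subgroup_dvd_card V.range
    rw [Nat.card_congr Multiplicative.toAdd, Nat.card_zmod] at hd
    refine ((Nat.dvd_prime Nat.prime_three).mp hd).resolve_left fun h1 => hV ?_
    have := (Subgroup.eq_bot_iff_card V.range).mpr h1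
    exact Subgroup.mem_bot.mp (this ▸ ⟨u0, rfl⟩)
  have := V.ker.card_mul_index
  rw [h3, card_G3] at this
  exact (Nat.le_of_dvd Nat.card_pos (Subgroup.card_dvd_of_le hle)).trans (by omega)

theorem commutator_le {N : Subgroup G3} [N.Normal] (h1 : N ≠ ⊥) (h : N ≤ commutator G3) :
    N = commutator G3 :=
  Subgroup.eq_of_le_of_card_ge h (card_commutator ▸ Nat.le_of_dvd Nat.card_pos (dvd_normal h1))

theorem char_eq_top (A : Subgroup ↥(commutator G3)) (hA : A ≠ ⊥)
    (hinv : ∀ g : G3, ∀ a ∈ A, ∀ b : ↥(commutator G3), (b : G3) = g * a * g⁻¹ → b ∈ A) : A = ⊤ := by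
  have : (A.map (commutator G3).subtype).Normal := ⟨fun x hx g => by
    obtain ⟨a, ha, rfl⟩ := hx
    exact ⟨⟨g * a * g⁻¹, Subgroup.Normal.conj_mem inferInstance _ a.2 g⟩, hinv g a ha _ rfl, rfl⟩⟩
  have h := commutator_le (N := A.map (commutator G3).subtype)
    (fun e => hA ((Subgroup.map_eq_bot_iff_of_injective A Subtype.val_injective).mp e))
    (Subgroup.map_subtype_le A)
  rw [eq_top_iff]
  intro x _
  obtain ⟨y, hy, e⟩ := (h.symm ▸ x.2 : (x : G3) ∈ A.map (commutator G3).subtype)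
  rwa [show x = y from Subtype.ext e.symm]

theorem conj_seven {g : G3} {a b : ↥(commutator G3)} (h : (b : G3) = g * a * g⁻¹) : b ^ 7 = 1 ↔ a ^ 7 = 1 := by
  simp [Subtype.ext_iff, h, _root_.conj_pow]

theorem isSimpleGroup_commutator : IsSimpleGroup ↥(commutator G3) := by
  classical
  have h7 : 7 ∣ Nat.card ↥(commutator G3) := by rw [card_commutator]; norm_num
  obtain ⟨x, hx⟩ := exists_prime_orderOf_dvd_card' (p := 7) h7
  have hx1 : x ≠ 1 := fun e => by rw [e, orderOf_one] at hx; omega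
  have hx7 : x ^ 7 = 1 := hx ▸ pow_orderOf_eq_one x
  set W : Subgroup ↥(commutator G3) := Subgroup.closure {y | y ^ 7 = 1}
  have hW : W = ⊤ := by
    refine char_eq_top W (fun e => hx1 (Subgroup.mem_bot.mp (e ▸ Subgroup.subset_closure hx7))) ?_
    intro g a ha b hb
    let c : ↥(commutator G3) →* ↥(commutator G3) :=
      (((MulAut.conj g).toMonoidHom).comp (commutator G3).subtype).codRestrict _
        fun z => Subgroup.Normal.conj_mem inferInstance _ z.2 g
    have hle : W ≤ W.comap c := (Subgroup.closure_le _).mpr fun y hy =>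
      Subgroup.subset_closure ((conj_seven (g := g) (a := y) (b := c y) rfl).mpr hy)
    have := hle ha
    rwa [Subgroup.mem_comap, show c a = b from Subtype.ext hb.symm] at this
  haveI : Nontrivial ↥(commutator G3) := ⟨⟨x, 1, hx1⟩⟩
  refine ⟨fun N hN => ?_⟩
  by_cases hall : ∀ y ∈ N, y ^ 7 = 1 → y = 1
  · left
    set P : Subgroup ↥(commutator G3) → Prop := fun M => M.Normal ∧ ∀ y ∈ M, y ^ 7 = 1 → y = 1
    have hsup : ∀ A B, P A → P B → P (A ⊔ B) := by
      rintro A B ⟨hA, hA7⟩ ⟨hB, hB7⟩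
      haveI := hA; haveI := hB
      refine ⟨inferInstance, fun y hy hy7 => hA7 y ?_ hy7⟩
      obtain ⟨a, ha, b, hb, rfl⟩ := Subgroup.mem_sup_of_normal_right.mp hy
      have hcop : Nat.Coprime 7 (Nat.card ↥B) := (Nat.Prime.coprime_iff_not_dvd (by norm_num)).mpr fun hd => by
        obtain ⟨z, hz⟩ := exists_prime_orderOf_dvd_card' (p := 7) hd
        have : (z : ↥(commutator G3)) = 1 := hB7 z z.2 (by
          rw [← SubmonoidClass.coe_pow, ← hz, pow_orderOf_eq_one]; rfl)
        rw [← Subgroup.orderOf_coe, this, orderOf_one] at hz; omega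
      have himg : QuotientGroup.mk' A (a * b) = QuotientGroup.mk' A b := by
        rw [map_mul, show QuotientGroup.mk' A a = 1 from (QuotientGroup.eq_one_iff a).mpr ha, one_mul]
      have h1 : orderOf (QuotientGroup.mk' A (a * b)) ∣ 7 :=
        orderOf_dvd_of_pow_eq_one (by rw [← map_pow, hy7, map_one])
      have h2 : orderOf (QuotientGroup.mk' A (a * b)) ∣ Nat.card ↥B := by
        rw [himg]; exact (orderOf_map_dvd _ b).trans (Subgroup.orderOf_dvd_natCard B hb)
      exact (QuotientGroup.eq_one_iff _).mp (orderOf_eq_one_iff.mp (Nat.eq_one_of_dvd_coprimes hcop h1 h2))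
    obtain ⟨M, ⟨hMn, hM7⟩, hmax⟩ := (Set.toFinite {A | P A}).exists_maximal ⟨N, hN, hall⟩
    by_contra hne
    have hbig : ∀ A, P A → A ≤ M := fun A hA => le_sup_left.trans (hmax (hsup A M hA ⟨hMn, hM7⟩) le_sup_right)
    refine absurd (hM7 x ?_ hx7) hx1
    suffices hM : M = ⊤ by rw [hM]; exact Subgroup.mem_top x
    refine char_eq_top M (fun e => hne (le_bot_iff.mp (e ▸ hbig N ⟨hN, hall⟩))) fun g a ha b hb => ?_
    let c : ↥(commutator G3) →* ↥(commutator G3) :=
      (((MulAut.conj g⁻¹).toMonoidHom).comp (commutator G3).subtype).codRestrict _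
        fun z => Subgroup.Normal.conj_mem inferInstance _ z.2 g⁻¹
    have hc : c b = a := Subtype.ext (by simp [c, hb, mul_assoc])
    refine hbig (M.comap c) ⟨hMn.comap c, fun y hy hy7 => ?_⟩ (by rw [Subgroup.mem_comap, hc]; exact ha)
    have h1 : c y = 1 := hM7 _ hy (by rw [← map_pow, hy7, map_one])
    have h2 := congrArg (fun z : ↥(commutator G3) => (z : G3)) h1
    have h3 : g⁻¹ * (y : G3) * g = 1 := by simpa [c] using h2
    refine Subtype.ext (show (y : G3) = 1 from ?_)
    rw [show (y : G3) = g * (g⁻¹ * (y : G3) * g) * g⁻¹ by group, h3, mul_one, mul_inv_cancel]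
  · right
    push Not at hall
    obtain ⟨y, hy, hy7, hy1⟩ := hall
    rw [eq_top_iff, ← hW, Subgroup.closure_le]
    intro z hz
    have hy0 : orderOf y = 7 := orderOf_eq_prime hy7 hy1
    have hcard : Nat.card ↥(Subgroup.zpowers y) = 7 ^ (Nat.card ↥(commutator G3)).factorization 7 := by
      rw [Nat.card_zpowers, hy0, card_commutator]; decide +kernel
    let P := Sylow.ofCard (Subgroup.zpowers y) hcard
    have hz7 : IsPGroup 7 ↥(Subgroup.zpowers z) := by
      rcases (Nat.dvd_prime (by norm_num : Nat.Prime 7)).mp (orderOf_dvd_of_pow_eq_one hz) with h | h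
      · exact IsPGroup.of_card (n := 0) (by rw [Nat.card_zpowers, h]; rfl)
      · exact IsPGroup.of_card (n := 1) (by rw [Nat.card_zpowers, h]; rfl)
    obtain ⟨Q, hQ⟩ := hz7.exists_le_sylow
    obtain ⟨k, rfl⟩ := exists_smul_eq ↥(commutator G3) P Q
    obtain ⟨w, hw, e⟩ := hQ (Subgroup.mem_zpowers z)
    obtain ⟨j, rfl⟩ := hw
    rw [← e]
    exact hN.conj_mem _ (zpow_mem hy j) k

end CfsgLib.Chevalley.ReeThree
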