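import Cfsg.Agent.Lib.Chevalley.Twist.G2Structure
import Mathlib.GroupTheory.Transfer

/-!
`²G₂(3)` has a normal subgroup of index three: the transfer from the point stabiliser
to a cyclic group of order three is nontrivial, since a nontrivial unipotent element
fixes a single point.
-/

set_option autoImplicit false
set_option maxRecDepth 20000

namespace CfsgLib.Chevalley.ReeThree

open Tbl Twist.G2

local notation "T2" => Data.G2.tbl

local notation "K3" => ZMod 3

instance fact3 : Fact (Nat.Prime 3) := ⟨Nat.prime_three⟩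

theorem hK3 : Nat.card K3 = 3 ^ (2 * 0 + 1) := by simp

/-- The group `²G₂(3)`. -/
abbrev G3 : Type := ↥(S hK3).fix

/-- The stabiliser of the standard point. -/
noncomputable def B3 : Subgroup G3 :=
  ((T2).datum.borelSubgroup K3 ⊓ (S hK3).fix).subgroupOf (S hK3).fix

theorem ree_quad (t u v : K3) : ree 0 t u v = quad t t u v (u + t ^ 4) (v + t ^ 5) := by
  rw [ree_eq_quad]; simp

/-- The coordinate of the product. -/
theorem ree_mul_snd {t u v t' u' v' t'' u'' v'' : K3}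
    (h : ree 0 t u v * ree 0 t' u' v' = ree 0 t'' u'' v'') :
    u'' - t'' ^ 2 = (u - t ^ 2) + (u' - t' ^ 2) := by
  rw [ree_quad, ree_quad, ree_quad, quad_mul hK3] at h
  obtain ⟨ht, -, hA, -, -, -⟩ := quad_inj h
  subst ht
  linear_combination -hA - t * t' * three_eq_zero hK3

/-- The coordinates of a unipotent element. -/
theorem coord_unique (a : GL (T2).I K3) (ha : a ∈ (T2).datum.posUnipotent K3 ⊓ (S hK3).fix) :
    ∃ p : K3, ∀ t u v, a = ree 0 t u v → p = u - t ^ 2 := by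
  obtain ⟨t, u, v, rfl⟩ := exists_pos hK3 ha
  exact ⟨u - t ^ 2, fun t' u' v' h => by obtain ⟨rfl, rfl, -⟩ := ree_inj hK3 h; rfl⟩

theorem conj_torus {c : K3ˣ} {t u v : K3} :
    ∃ t' v', hd hK3 c * ree 0 t u v * (hd hK3 c)⁻¹ = ree 0 t' u v' ∧ t' ^ 2 = t ^ 2 := by
  have hc : c = 1 ∨ c = -1 := by revert c; decide
  rcases hc with rfl | rfl
  · exact ⟨t, v, by simp, rfl⟩
  · exact ⟨-t, -v, neg_one_conj hK3 t u v, neg_sq t⟩

theorem borel_split (g : ↥B3) : ∃ p : K3, ∀ a, a ∈ (T2).datum.posUnipotent K3 ⊓ (S hK3).fix →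
    ∀ c : K3ˣ, ((g : G3) : GL (T2).I K3) = a * hd hK3 c → ∀ t u v, a = ree 0 t u v → p = u - t ^ 2 := by
  obtain ⟨a, ha, c, e⟩ := borel_parts_fix hK3 (g : G3).2 (Subgroup.mem_inf.mp (Subgroup.mem_subgroupOf.mp g.2)).1
  obtain ⟨p, hp⟩ := coord_unique a ha
  refine ⟨p, fun b hb d e' t u v hr => hp t u v ?_⟩
  rw [← hr]
  have e2 : b⁻¹ * a = hd hK3 d * (hd hK3 c)⁻¹ := by
    rw [eq_mul_inv_iff_mul_eq, mul_assoc, ← e, e', inv_mul_cancel_left]
  exact (inv_mul_eq_one.mp (pos_diag_one (mul_mem (inv_mem hb.1) ha.1)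
    (e2 ▸ mul_mem (hd_mem hK3 d).1 (inv_mem (hd_mem hK3 c).1)))).symm

/-- The coordinate map of the stabiliser. -/
noncomputable def phi (g : ↥B3) : K3 := (borel_split g).choose

theorem phi_eq {g : ↥B3} {c : K3ˣ} {t u v : K3}
    (e : ((g : G3) : GL (T2).I K3) = ree 0 t u v * hd hK3 c) : phi g = u - t ^ 2 :=
  (borel_split g).choose_spec _ (ree_mem_pos hK3 t u v) c e t u v rfl

theorem exists_parts3 (g : ↥B3) :
    ∃ (t u v : K3) (c : K3ˣ), ((g : G3) : GL (T2).I K3) = ree 0 t u v * hd hK3 c := by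
  obtain ⟨a, ha, c, e⟩ := borel_parts_fix hK3 (g : G3).2 (Subgroup.mem_inf.mp (Subgroup.mem_subgroupOf.mp g.2)).1
  obtain ⟨t, u, v, rfl⟩ := exists_pos hK3 ha
  exact ⟨t, u, v, c, e⟩

theorem phi_mul (g g' : ↥B3) : phi (g * g') = phi g + phi g' := by
  obtain ⟨t, u, v, c, e⟩ := exists_parts3 g
  obtain ⟨t', u', v', c', e'⟩ := exists_parts3 g'
  obtain ⟨t1, v1, e1, ht⟩ := conj_torus (c := c) (t := t') (u := u') (v := v')
  obtain ⟨t2, u2, v2, e2⟩ := exists_pos hK3 (mul_mem (ree_mem_pos hK3 t u v) (ree_mem_pos hK3 t1 u' v1))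
  have ep : ((((g * g' : ↥B3)) : G3) : GL (T2).I K3) = ree 0 t2 u2 v2 * hd hK3 (c * c') := by
    rw [Subgroup.coe_mul, Subgroup.coe_mul, e, e', ← e2, ← e1, map_mul]; group
  rw [phi_eq e, phi_eq e', phi_eq ep, ree_mul_snd e2, ht]

/-- The homomorphism of the stabiliser to the cyclic group of order three. -/
noncomputable def phiHom : ↥B3 →* Multiplicative K3 :=
  MonoidHom.mk' (fun g => Multiplicative.ofAdd (phi g)) fun a b => by rw [phi_mul, ofAdd_add]

theorem phiHom_conj (a b : ↥B3) : phiHom (a⁻¹ * b * a) = phiHom b := by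
  rw [map_mul, map_mul, map_inv, mul_comm (phiHom a)⁻¹, inv_mul_cancel_right]

/-- The unipotent element used. -/
noncomputable def u0 : G3 := ⟨ree 0 0 1 0, (ree_mem_pos hK3 0 1 0).2⟩

theorem u0_mem : u0 ∈ Upart hK3 := Subgroup.mem_subgroupOf.mpr (ree_mem_pos hK3 0 1 0)

theorem u0_B3 : u0 ∈ B3 :=
  Subgroup.mem_subgroupOf.mpr ⟨pos_le_borel (ree_mem_pos hK3 0 1 0).1, u0.2⟩

theorem mem_B3_iff {g : G3} : g ∈ B3 ↔ g • pInf hK3 = pInf hK3 := by
  rw [fixes_iff hK3, B3, Subgroup.mem_subgroupOf, Subgroup.mem_inf]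
  simp only [OneMemClass.coe_one, inv_one, one_mul, mul_one]
  exact ⟨fun h => h.1, fun h => ⟨h, g.2⟩⟩

theorem exists_hom : ∃ V : G3 →* Multiplicative K3, V u0 ≠ 1 := by
  classical
  haveI : B3.FiniteIndex := Subgroup.finiteIndex_of_finite_quotient
  refine ⟨MonoidHom.transfer phiHom, ?_⟩
  rw [MonoidHom.transfer_eq_prod_quotient_orbitRel_zpowers_quot]
  have hfix : u0 • pInf hK3 = pInf hK3 := mem_B3_iff.mp u0_B3
  set q0 : Quotient (MulAction.orbitRel (Subgroup.zpowers u0) (G3 ⧸ B3)) := Quotient.mk'' (pInf hK3)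
  have hout : q0.out = pInf hK3 := by
    have h : (MulAction.orbitRel (Subgroup.zpowers u0) (G3 ⧸ B3)) q0.out (pInf hK3) := Quotient.mk_out _
    obtain ⟨⟨_, k, rfl⟩, hk⟩ := h
    rw [← hk]
    show (u0 ^ k) • pInf hK3 = pInf hK3
    exact mem_B3_iff.mp (zpow_mem u0_B3 k)
  have hper : Function.minimalPeriod (u0 • ·) q0.out = 1 :=
    Function.minimalPeriod_eq_one_iff_isFixedPt.mpr (show u0 • q0.out = q0.out by rw [hout]; exact hfix)
  rw [Finset.prod_eq_single q0]
  · have hx : q0.out.out ∈ B3 := by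
      have : (QuotientGroup.mk q0.out.out : G3 ⧸ B3) = QuotientGroup.mk 1 := by
        rw [QuotientGroup.out_eq']; exact hout
      simpa using QuotientGroup.eq.mp this
    rw [show (⟨q0.out.out⁻¹ * u0 ^ Function.minimalPeriod (u0 • ·) q0.out * q0.out.out,
        QuotientGroup.out_conj_pow_minimalPeriod_mem B3 u0 q0.out⟩ : ↥B3) =
      (⟨q0.out.out, hx⟩ : ↥B3)⁻¹ * ⟨u0, u0_B3⟩ * ⟨q0.out.out, hx⟩ from Subtype.ext (by simp [hper]),
      phiHom_conj]
    show Multiplicative.ofAdd (phi _) ≠ 1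
    rw [phi_eq (t := 0) (u := 1) (v := 0) (c := 1) (by simp [u0])]
    decide
  · intro q _ hq
    set f := Function.minimalPeriod (u0 • ·) q.out
    by_cases h1 : u0 ^ f = 1
    · rw [show (⟨q.out.out⁻¹ * u0 ^ f * q.out.out,
        QuotientGroup.out_conj_pow_minimalPeriod_mem B3 u0 q.out⟩ : ↥B3) = 1 from
        Subtype.ext (by simp [h1]), map_one]
    · have hq' : u0 ^ f • q.out = q.out := by
        have := Function.isPeriodicPt_minimalPeriod (u0 • ·) q.out
        rwa [Function.IsPeriodicPt, Function.IsFixedPt, smul_iterate] at this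
      have := fix_Upart hK3 (pow_mem u0_mem f) h1 hq'
      exact absurd ((Quotient.out_eq' q).symm.trans (congrArg Quotient.mk'' this)) hq
  · exact fun h => absurd (Finset.mem_univ _) h

end CfsgLib.Chevalley.ReeThree
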